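import Cfsg.Agent.Lib.AltTwoConj.Grow

/-!
# Even permutations as products of two permutations of one special cycle type

Every even permutation of at least five letters is a product `a * b` with `a`, `b` of the same even cycle
type containing at least two transpositions.
-/

set_option autoImplicit false
set_option linter.style.haveILetI false

namespace Cfsg.Agent.AltTwoConj

open Equiv Equiv.Perm

/-- Some product of two permutations of cycle type `T` has the cycle parts `M`. -/
def Dec (M T : Multiset ℕ) : Prop :=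
  ∃ (α : Type) (_ : Fintype α) (_ : DecidableEq α) (a b : Perm α),
    (a * b).partition.parts = M ∧ a.cycleType = T ∧ b.cycleType = T

/-- The same, with transpositions of the first factor inside cycles of the given lengths. -/
def Gr (M T : Multiset ℕ) (S : List ℕ) : Prop :=
  ∃ (α : Type) (_ : Fintype α) (_ : DecidableEq α) (a b : Perm α) (us : List α),
    (a * b).partition.parts = M ∧ a.cycleType = T ∧ b.cycleType = T ∧
    List.Forall₂ (fun u m => Edge a (a * b) u m) us S ∧
    us.Pairwise fun u w => w ∉ ((a * b).cycleOf u).support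

lemma Gr.dec {M T : Multiset ℕ} {S : List ℕ} (h : Gr M T S) : Dec M T := by
  obtain ⟨α, i1, i2, a, b, us, h1, h2, h3, _⟩ := h
  exact ⟨α, i1, i2, a, b, h1, h2, h3⟩

lemma Gr.drop {M T : Multiset ℕ} {m : ℕ} {S : List ℕ} (h : Gr M T (m :: S)) : Gr M T S := by
  obtain ⟨α, i1, i2, a, b, us, h1, h2, h3, h4, h5⟩ := h
  cases h4 with
  | cons hh ht => exact ⟨α, i1, i2, a, b, _, h1, h2, h3, ht, (List.pairwise_cons.1 h5).2⟩

lemma Gr.grow {R T : Multiset ℕ} {m : ℕ} {S : List ℕ} (hS : S.length ≤ 1)
    (h : Gr (m ::ₘ R) T (m :: S)) : Gr ((m + 2) ::ₘ R) (2 ::ₘ T) ((m + 2) :: S) := by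
  obtain ⟨α, i1, i2, a, b, us, h1, h2, h3, h4, h5⟩ := h
  cases h4 with
  | @cons u _ us' _ hh ht =>
    obtain ⟨a', b', ha', hb', hab, hE, hrest⟩ := AltTwoConj.grow hh
    obtain ⟨hp1, hp2⟩ := List.pairwise_cons.1 h5
    refine ⟨α ⊕ Bool, inferInstance, inferInstance, a', b', Sum.inl u :: us'.map Sum.inl, ?_, ?_, ?_,
      List.Forall₂.cons hE ?_, List.pairwise_cons.2 ⟨?_, ?_⟩⟩
    · have hm : 1 < m := by
        have := hh.moved
        rw [← hh.card]
        exact (isCycle_cycleOf _ this).two_le_card_support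
      have hs := congrArg Multiset.sum hab
      simp only [Multiset.sum_add, Multiset.sum_singleton] at hs
      rw [parts_eq] at h1 ⊢
      have hcnt : Fintype.card (α ⊕ Bool) - (a' * b').cycleType.sum =
          Fintype.card α - (a * b).cycleType.sum := by
        rw [Fintype.card_sum, Fintype.card_bool]; omega
      rw [hcnt]
      have : ((a' * b').cycleType + Multiset.replicate (Fintype.card α - (a * b).cycleType.sum) 1) + {m}
          = ((m + 2) ::ₘ R) + {m} := by
        rw [add_right_comm, hab, add_right_comm, h1, ← Multiset.singleton_add, ← Multiset.singleton_add]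
        abel
      exact add_right_cancel this
    · rw [ha', h2, ← Multiset.singleton_add, add_comm]
    · rw [hb', h3, ← Multiset.singleton_add, add_comm]
    · rw [List.forall₂_map_left_iff]
      clear h5 hp2 hS
      induction ht with
      | nil => exact List.Forall₂.nil
      | @cons w k l _ hw _ ih =>
        refine List.Forall₂.cons (hrest w k (hp1 w (List.mem_cons_self)) hw).1 (ih ?_)
        exact fun x hx => hp1 x (List.mem_cons_of_mem _ hx)
    · intro x hx
      obtain ⟨w, hw, rfl⟩ := List.mem_map.1 hx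
      obtain ⟨k, hk⟩ : ∃ k, Edge a (a * b) w k := by
        clear h5 hp2 hp1 hS
        induction ht with
        | nil => simp at hw
        | @cons w' k' l _ hw' _ ih =>
          rcases List.mem_cons.1 hw with e | hw
          · exact ⟨k', e ▸ hw'⟩
          · exact ih hw (List.mem_map_of_mem hw)
      exact (hrest w k (hp1 w hw) hk).2
    · have hl : us'.length ≤ 1 := ht.length_eq ▸ hS
      match us', hl with
      | [], _ => simp
      | [w], _ => simp

lemma Gr.growN {R T : Multiset ℕ} {m : ℕ} {S : List ℕ} (hS : S.length ≤ 1)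
    (h : Gr (m ::ₘ R) T (m :: S)) (i : ℕ) :
    Gr ((m + 2 * i) ::ₘ R) (Multiset.replicate i 2 + T) ((m + 2 * i) :: S) := by
  induction i with
  | zero => simpa using h
  | succ i ih =>
    have := Gr.grow hS ih
    rw [show m + 2 * (i + 1) = m + 2 * i + 2 by ring, Multiset.replicate_succ, Multiset.cons_add]
    exact this

lemma Dec.add {M M' T T' : Multiset ℕ} (h : Dec M T) (h' : Dec M' T') : Dec (M + M') (T + T') := by
  obtain ⟨α, i1, i2, a, b, h1, h2, h3⟩ := h
  obtain ⟨β, j1, j2, c, d, k1, k2, k3⟩ := h'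
  refine ⟨α ⊕ β, inferInstance, inferInstance, Equiv.Perm.sumCongr a c, Equiv.Perm.sumCongr b d, ?_, ?_, ?_⟩
  · rw [Equiv.Perm.sumCongr_mul, parts_sumCongr, h1, k1]
  · rw [cycleType_sumCongr, h2, k2]
  · rw [cycleType_sumCongr, h3, k3]

section Bases

/-- A list of images as a permutation. -/
abbrev P {N : ℕ} (l : List (List (Fin N))) : Perm (Fin N) := (l.map List.formPerm).prod

lemma base_one : Dec {1} 0 := ⟨Fin 1, inferInstance, inferInstance, 1, 1, by decide +kernel⟩

lemma base_ones : Dec {1, 1} {2} :=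
  ⟨Fin 2, inferInstance, inferInstance, swap 0 1, swap 0 1, by decide +kernel⟩

lemma base_twos : Dec {2, 2} {2, 2} :=
  ⟨Fin 4, inferInstance, inferInstance, P [[0, 2], [1, 3]], P [[0, 3], [1, 2]], by decide +kernel⟩

lemma base_threes : Dec {3, 3} {2, 2, 2} :=
  ⟨Fin 6, inferInstance, inferInstance, P [[0, 4], [1, 3], [2, 5]], P [[0, 3], [1, 5], [2, 4]],
    by decide +kernel⟩

lemma edge_of {N : ℕ} (a σ : Perm (Fin N)) (u : Fin N) (m : ℕ)
    (h : a u ≠ u ∧ a (a u) = u ∧ a u ∈ (σ.cycleOf u).support ∧ (σ.cycleOf u).support.card = m) :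
    Edge a σ u m := ⟨h.1, h.2.1, h.2.2.1, h.2.2.2⟩

lemma gr_one {N : ℕ} {M T : Multiset ℕ} (a b : Perm (Fin N)) (u : Fin N) (m : ℕ)
    (h : (a * b).partition.parts = M ∧ a.cycleType = T ∧ b.cycleType = T)
    (hu : a u ≠ u ∧ a (a u) = u ∧ a u ∈ ((a * b).cycleOf u).support ∧
      ((a * b).cycleOf u).support.card = m) : Gr M T [m] :=
  ⟨Fin N, inferInstance, inferInstance, a, b, [u], h.1, h.2.1, h.2.2,
    List.Forall₂.cons (edge_of _ _ _ _ hu) List.Forall₂.nil, List.pairwise_singleton _ _⟩

lemma gr_two {N : ℕ} {M T : Multiset ℕ} (a b : Perm (Fin N)) (u w : Fin N) (m k : ℕ)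
    (h : (a * b).partition.parts = M ∧ a.cycleType = T ∧ b.cycleType = T)
    (hu : a u ≠ u ∧ a (a u) = u ∧ a u ∈ ((a * b).cycleOf u).support ∧
      ((a * b).cycleOf u).support.card = m)
    (hw : a w ≠ w ∧ a (a w) = w ∧ a w ∈ ((a * b).cycleOf w).support ∧
      ((a * b).cycleOf w).support.card = k)
    (hd : w ∉ ((a * b).cycleOf u).support) : Gr M T [m, k] :=
  ⟨Fin N, inferInstance, inferInstance, a, b, [u, w], h.1, h.2.1, h.2.2,
    List.Forall₂.cons (edge_of _ _ _ _ hu) (List.Forall₂.cons (edge_of _ _ _ _ hw) List.Forall₂.nil),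
    List.pairwise_pair.2 hd⟩

lemma refl_three : Gr {3} {2} [3] :=
  gr_one (P (N := 3) [[0, 1]]) (P [[1, 2]]) 0 3 (by decide +kernel) (by decide +kernel)

lemma refl_two_two : Gr {2, 2} {2} [2] :=
  gr_one (P (N := 4) [[0, 1]]) (P [[2, 3]]) 0 2 (by decide +kernel) (by decide +kernel)

lemma refl_four_four : Gr {4, 4} {2, 2, 2} [4, 4] :=
  gr_two (P (N := 8) [[0, 1], [2, 3], [5, 7]]) (P [[1, 3], [4, 7], [5, 6]]) 0 5 4 4
    (by decide +kernel) (by decide +kernel) (by decide +kernel) (by decide +kernel)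

lemma gadget_five : Gr {5} {2, 3} [5] :=
  gr_one (P (N := 5) [[0, 2], [1, 4, 3]]) (P [[0, 3, 1], [2, 4]]) 0 5 (by decide +kernel) (by decide +kernel)

lemma gadget_four_two : Gr {4, 2} {2, 3} [4] :=
  gr_one (P (N := 6) [[1, 3], [2, 4, 5]]) (P [[0, 3], [1, 5, 2]]) 1 4 (by decide +kernel) (by decide +kernel)

lemma gadget_four_four : Gr {4, 4} {2, 2, 3} [4, 4] :=
  gr_two (P (N := 8) [[1, 3], [2, 4, 7], [5, 6]]) (P [[0, 3], [1, 7, 2], [4, 6]]) 1 5 4 4
    (by decide +kernel) (by decide +kernel) (by decide +kernel) (by decide +kernel)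

end Bases

abbrev twos (k : ℕ) : Multiset ℕ := Multiset.replicate k 2

lemma refl_odd (j : ℕ) : Dec {2 * j + 1} (twos j) := by
  rcases j with _ | i
  · exact base_one
  · have := (Gr.growN (R := 0) (by simp) refl_three i).dec
    rw [show 2 * (i + 1) + 1 = 3 + 2 * i by ring]
    simpa [twos, Multiset.replicate_succ, add_comm, ← Multiset.singleton_add] using this

lemma gadget_odd (j : ℕ) : Dec {2 * j + 5} (3 ::ₘ twos (j + 1)) := by
  have := (Gr.growN (R := 0) (by simp) gadget_five j).dec
  rw [show 2 * j + 5 = 5 + 2 * j by ring]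
  convert this using 1 <;>
    simp [twos, Multiset.replicate_add, Multiset.replicate_succ, ← Multiset.singleton_add] <;> abel

lemma refl_pair (i l : ℕ) : Dec {2 * i + 2, 2 * l + 2} (twos (i + l + 1)) := by
  have h1 : ∀ i : ℕ, Dec {2 * i + 2, 2} (twos (i + 1)) := fun i => by
    have := (Gr.growN (R := {2}) (by simp) refl_two_two i).dec
    rw [show 2 * i + 2 = 2 + 2 * i by ring]
    convert this using 1 <;>
      simp [twos, Multiset.replicate_add, Multiset.replicate_succ, ← Multiset.singleton_add] <;> abel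
  rcases l with _ | l'
  · exact h1 i
  rcases i with _ | i'
  · rw [Multiset.pair_comm, show 0 + (l' + 1) + 1 = (l' + 1) + 1 by ring]
    exact h1 _
  have g1 := (Gr.growN (R := {4}) (by simp) refl_four_four i').drop
  rw [show (4 + 2 * i') ::ₘ ({4} : Multiset ℕ) = 4 ::ₘ {4 + 2 * i'} from Multiset.pair_comm _ _] at g1
  have := (Gr.growN (R := {4 + 2 * i'}) (by simp) g1 l').dec
  rw [show 2 * (i' + 1) + 2 = 4 + 2 * i' by ring, show 2 * (l' + 1) + 2 = 4 + 2 * l' by ring,
    Multiset.pair_comm]
  convert this using 1 <;>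
    simp [twos, Multiset.replicate_add, Multiset.replicate_succ, ← Multiset.singleton_add] <;> abel

lemma gadget_pair (i l : ℕ) : Dec {2 * i + 4, 2 * l + 2} (3 ::ₘ twos (i + l + 1)) := by
  rcases l with _ | l'
  · have := (Gr.growN (R := {2}) (by simp) gadget_four_two i).dec
    rw [show 2 * i + 4 = 4 + 2 * i by ring]
    convert this using 1 <;>
      simp [twos, Multiset.replicate_add, Multiset.replicate_succ, ← Multiset.singleton_add] <;> abel
  have g1 := (Gr.growN (R := {4}) (by simp) gadget_four_four i).drop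
  rw [show (4 + 2 * i) ::ₘ ({4} : Multiset ℕ) = 4 ::ₘ {4 + 2 * i} from Multiset.pair_comm _ _] at g1
  have := (Gr.growN (R := {4 + 2 * i}) (by simp) g1 l').dec
  rw [show 2 * i + 4 = 4 + 2 * i by ring, show 2 * (l' + 1) + 2 = 4 + 2 * l' by ring, Multiset.pair_comm]
  convert this using 1 <;>
    simp [twos, Multiset.replicate_add, Multiset.replicate_succ, ← Multiset.singleton_add] <;> abel

lemma even_of_all_odd {M : Multiset ℕ} (h : ∀ x ∈ M, Odd x) : Even (M.sum + Multiset.card M) := by
  induction M using Multiset.induction_on with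
  | empty => simp
  | cons a M ih =>
    obtain ⟨j, rfl⟩ := h a (Multiset.mem_cons_self _ _)
    obtain ⟨c, hc⟩ := ih fun x hx => h x (Multiset.mem_cons_of_mem hx)
    exact ⟨c + j + 1, by simp; omega⟩

lemma exists_even_partner {m : ℕ} {M : Multiset ℕ} (hm : Even m) (hM : Even ((m ::ₘ M).sum + Multiset.card (m ::ₘ M))) :
    ∃ e ∈ M, Even e := by
  by_contra h
  obtain ⟨c, hc⟩ := hm
  obtain ⟨d, hd⟩ := hM
  obtain ⟨f, hf⟩ := even_of_all_odd (M := M) fun x hx => Nat.not_even_iff_odd.1 fun he => h ⟨x, hx, he⟩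
  simp at hd
  omega

theorem refl_all (N : ℕ) : ∀ M : Multiset ℕ, Multiset.card M ≤ N → (∀ x ∈ M, 0 < x) →
    Even (M.sum + Multiset.card M) → ∃ k, Dec M (twos k) ∧ 2 * k + Multiset.card M = M.sum := by
  induction N with
  | zero =>
    intro M hM _ _
    obtain rfl := Multiset.card_eq_zero.1 (Nat.le_zero.1 hM)
    exact ⟨0, ⟨Fin 0, inferInstance, inferInstance, 1, 1, by decide +kernel⟩, rfl⟩
  | succ N ih =>
    intro M hM hpos hev
    by_cases h0 : M = 0
    · exact ih M (by simp [h0]) hpos hev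
    obtain ⟨m, hm⟩ := Multiset.exists_mem_of_ne_zero h0
    obtain ⟨M', rfl⟩ := Multiset.exists_cons_of_mem hm
    simp only [Multiset.card_cons, Multiset.sum_cons] at hM hev
    have hpos' : ∀ x ∈ M', 0 < x := fun x hx => hpos x (Multiset.mem_cons_of_mem hx)
    rcases Nat.even_or_odd m with hme | hmo
    · obtain ⟨e, he, hee⟩ := exists_even_partner hme (M := M') (by simpa using hev)
      obtain ⟨M'', rfl⟩ := Multiset.exists_cons_of_mem he
      obtain ⟨i, rfl⟩ : ∃ i, m = 2 * i + 2 := by
        obtain ⟨c, hc⟩ := hme; have := hpos m (Multiset.mem_cons_self _ _); exact ⟨c - 1, by omega⟩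
      obtain ⟨l, rfl⟩ : ∃ l, e = 2 * l + 2 := by
        obtain ⟨c, hc⟩ := hee; have := hpos' e he; exact ⟨c - 1, by omega⟩
      simp only [Multiset.card_cons, Multiset.sum_cons] at hM hev
      obtain ⟨k, hk, hk'⟩ := ih M'' (by omega) (fun x hx => hpos' x (Multiset.mem_cons_of_mem hx))
        (by obtain ⟨c, hc⟩ := hev; exact ⟨c - (i + l + 3), by omega⟩)
      refine ⟨i + l + 1 + k, ?_, by simp; omega⟩
      have := (refl_pair i l).add hk
      rw [← Multiset.replicate_add] at this
      simpa [← Multiset.singleton_add, add_assoc] using this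
    · obtain ⟨j, rfl⟩ := hmo
      obtain ⟨k, hk, hk'⟩ := ih M' (by omega) hpos' (by obtain ⟨c, hc⟩ := hev; exact ⟨c - (j + 1), by omega⟩)
      refine ⟨j + k, ?_, by simp; omega⟩
      have := (refl_odd j).add hk
      simpa [twos, Multiset.replicate_add, ← Multiset.singleton_add, add_assoc] using this

/-- A cycle type whose permutations are even and contain two transpositions. -/
def Special (T : Multiset ℕ) : Prop :=
  ∃ t, Even t ∧ 2 ≤ t ∧ (T = twos t ∨ T = 3 ::ₘ twos t)

theorem exists_special (M : Multiset ℕ) (hpos : ∀ x ∈ M, 0 < x) (hn : 5 ≤ M.sum)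
    (hev : Even (M.sum + Multiset.card M)) : ∃ T, Special T ∧ Dec M T := by
  obtain ⟨k, hk, hk'⟩ := refl_all _ M le_rfl hpos hev
  have sub : ∀ B : Multiset ℕ, B ≤ M → Even (B.sum + Multiset.card B) →
      ∃ R k', M = B + R ∧ Dec R (twos k') ∧ 2 * k' + Multiset.card R = R.sum ∧
        2 * k' + Multiset.card M + B.sum = M.sum + Multiset.card B := by
    intro B hB hBe
    obtain ⟨R, rfl⟩ := Multiset.le_iff_exists_add.1 hB
    obtain ⟨c, hc⟩ := hBe
    obtain ⟨d, hd⟩ := hev
    rw [Multiset.sum_add, Multiset.card_add] at hd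
    obtain ⟨k', h1, h2⟩ := refl_all _ R le_rfl (fun x hx => hpos x (Multiset.mem_add.2 (Or.inr hx)))
      ⟨d - c, by omega⟩
    refine ⟨R, k', rfl, h1, h2, ?_⟩
    rw [Multiset.sum_add, Multiset.card_add]
    omega
  rcases Nat.even_or_odd k with hke | hko
  · rcases Nat.eq_zero_or_pos k with rfl | hk0
    · -- the identity
      have hall : M = Multiset.replicate (Multiset.card M) 1 := by
        refine Multiset.eq_replicate_card.2 fun x hx => ?_
        obtain ⟨R, rfl⟩ := Multiset.exists_cons_of_mem hx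
        have h1 : Multiset.card R ≤ R.sum := by
          simpa using Multiset.card_nsmul_le_sum (a := 1) fun y hy => hpos y (Multiset.mem_cons_of_mem hy)
        have h2 := hpos x hx
        simp at hk'
        omega
      obtain ⟨R, k', rfl, h1, h2, h3⟩ := sub (({1, 1} : Multiset ℕ) + {1, 1}) (by
        rw [hall, show ({1, 1} : Multiset ℕ) + {1, 1} = Multiset.replicate 4 1 by decide]
        exact (Multiset.replicate_le_replicate 1).2 (by omega)) (by decide)
      simp at h3 hk' hn
      obtain rfl : k' = 0 := by omega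
      refine ⟨twos 2, ⟨2, even_two, le_rfl, Or.inl rfl⟩, ?_⟩
      simpa [twos, Multiset.replicate_succ] using (base_ones.add base_ones).add h1
    · exact ⟨_, ⟨k, hke, by obtain ⟨c, hc⟩ := hke; omega, Or.inl rfl⟩, hk⟩
  obtain ⟨c, hc⟩ := hko
  have flip : ∀ (B : Multiset ℕ) (t : ℕ), B ≤ M → Dec B (twos t) → B.sum + 2 = Multiset.card B + 2 * t →
      ∃ T, Special T ∧ Dec M T := by
    intro B t hB hD hval
    obtain ⟨R, k', hM, h1, h2, h3⟩ := sub B hB ⟨Multiset.card B + t - 1, by omega⟩
    refine ⟨_, ⟨t + k', ⟨c + 1, by omega⟩, by omega, Or.inl rfl⟩, ?_⟩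
    have := hD.add h1
    rw [← Multiset.replicate_add] at this
    rwa [hM]
  by_cases hA : ∃ m ∈ M, Odd m ∧ 5 ≤ m
  · obtain ⟨m, hm, hmo, hm5⟩ := hA
    obtain ⟨j, rfl⟩ : ∃ j, m = 2 * j + 5 := by obtain ⟨i, hi⟩ := hmo; exact ⟨i - 2, by omega⟩
    obtain ⟨R, k', rfl, h1, h2, h3⟩ := sub {2 * j + 5} (Multiset.singleton_le.2 hm)
      ⟨j + 3, by simp; omega⟩
    simp at h3 hk'
    refine ⟨_, ⟨j + 1 + k', ⟨c, by omega⟩, by omega, Or.inr rfl⟩, ?_⟩
    simpa [twos, Multiset.replicate_add, Multiset.cons_add] using (gadget_odd j).add h1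
  by_cases hB : ∃ m ∈ M, Even m ∧ 4 ≤ m
  · obtain ⟨m, hm, hme, hm4⟩ := hB
    obtain ⟨M', rfl⟩ := Multiset.exists_cons_of_mem hm
    obtain ⟨e, he, hee⟩ := exists_even_partner hme hev
    obtain ⟨i, rfl⟩ : ∃ i, m = 2 * i + 4 := by obtain ⟨d, hd⟩ := hme; exact ⟨d - 2, by omega⟩
    obtain ⟨l, rfl⟩ : ∃ l, e = 2 * l + 2 := by
      obtain ⟨d, hd⟩ := hee; have := hpos e (Multiset.mem_cons_of_mem he); exact ⟨d - 1, by omega⟩
    obtain ⟨R, k', hM, h1, h2, h3⟩ := sub {2 * i + 4, 2 * l + 2}
      (Multiset.cons_le_cons _ (Multiset.singleton_le.2 he)) ⟨i + l + 4, by simp; omega⟩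
    rw [hM]
    simp at h3 hk'
    refine ⟨_, ⟨i + l + 1 + k', ⟨c, by omega⟩, by omega, Or.inr rfl⟩, ?_⟩
    simpa [twos, Multiset.replicate_add, Multiset.cons_add] using (gadget_pair i l).add h1
  simp only [not_exists, not_and, not_le] at hA hB
  have hsmall : ∀ x ∈ M, x = 1 ∨ x = 2 ∨ x = 3 := by
    intro x hx
    have := hpos x hx
    rcases Nat.even_or_odd x with he | ho
    · have := hB x hx he
      omega
    · have := hA x hx ho
      obtain ⟨d, hd⟩ := ho
      omega
  by_cases h2 : 2 ≤ M.count 2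
  · refine flip {2, 2} 2 ?_ ?_ (by simp)
    · exact (Multiset.le_count_iff_replicate_le).1 h2
    · exact base_twos
  by_cases h3 : 2 ≤ M.count 3
  · refine flip {3, 3} 3 ?_ ?_ (by simp)
    · exact (Multiset.le_count_iff_replicate_le).1 h3
    · exact base_threes
  by_cases h1 : 2 ≤ M.count 1
  · refine flip {1, 1} 1 ?_ ?_ (by simp)
    · exact (Multiset.le_count_iff_replicate_le).1 h1
    · exact base_ones
  exfalso
  have hsub : M ≤ ({1, 2, 3} : Multiset ℕ) := by
    rw [Multiset.le_iff_count]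
    intro x
    by_cases hx : x ∈ M
    · rcases hsmall x hx with rfl | rfl | rfl <;> simp <;> omega
    · simp [Multiset.count_eq_zero_of_notMem hx]
  have h2' : M.count 2 = 0 := by
    by_contra hne
    obtain ⟨M', rfl⟩ := Multiset.exists_cons_of_mem (Multiset.count_pos.1 (Nat.pos_of_ne_zero hne))
    obtain ⟨e, he, hee⟩ := exists_even_partner even_two hev
    rcases hsmall e (Multiset.mem_cons_of_mem he) with rfl | rfl | rfl
    · exact absurd hee (by decide)
    · have := Multiset.count_pos.2 he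
      rw [Multiset.count_cons_self] at h2
      omega
    · exact absurd hee (by decide)
  have : M ≤ ({1, 3} : Multiset ℕ) := by
    rw [Multiset.le_iff_count]
    intro x
    have := Multiset.le_iff_count.1 hsub x
    by_cases hx : x = 2
    · subst hx; omega
    · simp [Multiset.count_cons, hx] at this ⊢; omega
  obtain ⟨R, hR⟩ := Multiset.le_iff_exists_add.1 this
  have := congrArg Multiset.sum hR
  simp at this
  omega

/-- **Every even permutation of at least five letters is a product of two permutations of one special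
cycle type.** -/
theorem exists_special_factorisation {n : ℕ} (hn : 5 ≤ n) (σ : Perm (Fin n)) (hσ : sign σ = 1) :
    ∃ a b : Perm (Fin n), σ = a * b ∧ a.cycleType = b.cycleType ∧ Special a.cycleType := by
  have hsum : σ.partition.parts.sum = n := by rw [σ.partition.parts_sum, Fintype.card_fin]
  have hev : Even (σ.partition.parts.sum + Multiset.card σ.partition.parts) := by
    have h := sign_of_cycleType σ
    rw [hσ] at h
    have he : Even (σ.cycleType.sum + Multiset.card σ.cycleType) := by
      rcases Nat.even_or_odd (σ.cycleType.sum + Multiset.card σ.cycleType) with he | ho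
      · exact he
      · rw [ho.neg_one_pow] at h; exact absurd h (by decide)
    obtain ⟨c, hc⟩ := he
    rw [parts_eq, Multiset.sum_add, Multiset.card_add, Multiset.sum_replicate, Multiset.card_replicate,
      smul_eq_mul, mul_one]
    exact ⟨c + (Fintype.card (Fin n) - σ.cycleType.sum), by omega⟩
  obtain ⟨T, hT, α, i1, i2, a, b, h1, h2, h3⟩ :=
    exists_special σ.partition.parts (fun x hx => σ.partition.parts_pos hx) (by omega) hev
  have hcard : Fintype.card α = n := by
    have := (a * b).partition.parts_sum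
    rw [h1, hsum] at this
    exact this.symm
  let e : α ≃ Fin n := (Fintype.equivFin α).trans (finCongr hcard)
  have hmul : e.permCongr (a * b) = e.permCongr a * e.permCongr b := by ext x; simp
  have hp : (e.permCongr a * e.permCongr b).partition = σ.partition := by
    refine Nat.Partition.ext ?_
    rw [← hmul, parts_permCongr, h1]
  obtain ⟨τ, hτ⟩ := isConj_iff.1 (partition_eq_of_isConj.2 hp)
  refine ⟨τ * e.permCongr a * τ⁻¹, τ * e.permCongr b * τ⁻¹, ?_, ?_, ?_⟩
  · rw [← hτ]; group
  · rw [cycleType_conj, cycleType_conj, cycleType_permCongr, cycleType_permCongr, h2, h3]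
  · rw [cycleType_conj, cycleType_permCongr, h2]; exact hT

end Cfsg.Agent.AltTwoConj
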