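import Mathlib

/-!
# Lengthening the cycles of a product of two permutations

If a transposition `(u v)` of `a` lies inside a cycle of `σ = a * b`, then replacing it by
`(u p) (q v)` and multiplying `b` by `(p q)`, with two new points `p`, `q`, lengthens that cycle by two.
-/

set_option autoImplicit false
set_option linter.style.haveILetI false

namespace Cfsg.Agent.AltTwoConj

open Equiv Equiv.Perm

variable {α : Type*} [Fintype α] [DecidableEq α]

lemma parts_eq (σ : Perm α) : σ.partition.parts =
    σ.cycleType + Multiset.replicate (Fintype.card α - σ.cycleType.sum) 1 := by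
  rw [parts_partition, sum_cycleType]

lemma cycleType_permCongr {β : Type*} [Fintype β] [DecidableEq β] (e : α ≃ β) (a : Perm α) :
    (e.permCongr a).cycleType = a.cycleType := by
  have h : e.permCongr a =
      a.extendDomain (e.trans (Equiv.subtypeUnivEquiv (p := fun _ : β => True) (fun _ => trivial)).symm) := by
    ext x
    rw [Equiv.Perm.extendDomain_apply_subtype _ _ trivial]
    simp
  rw [h, cycleType_extendDomain]

lemma parts_permCongr {β : Type*} [Fintype β] [DecidableEq β] (e : α ≃ β) (a : Perm α) :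
    (e.permCongr a).partition.parts = a.partition.parts := by
  rw [parts_eq, parts_eq, cycleType_permCongr, Fintype.card_congr e]

lemma cycleType_sumCongr_one {β : Type*} [Fintype β] [DecidableEq β] (a : Perm α) :
    (Equiv.Perm.sumCongr a (1 : Perm β)).cycleType = a.cycleType := by
  let f : α ≃ {x : α ⊕ β // x.isLeft = true} :=
    { toFun := fun x => ⟨.inl x, rfl⟩
      invFun := fun x => x.1.getLeft x.2
      left_inv := fun x => rfl
      right_inv := by rintro ⟨x | x, hx⟩ <;> simp_all }
  have h : Equiv.Perm.sumCongr a (1 : Perm β) = a.extendDomain f := by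
    ext x
    rcases x with x | x
    · exact (Equiv.Perm.extendDomain_apply_image a f x).symm
    · rw [Equiv.Perm.extendDomain_apply_not_subtype _ _ (by simp)]
      simp
  rw [h, cycleType_extendDomain]

lemma cycleType_sumCongr {β : Type*} [Fintype β] [DecidableEq β] (a : Perm α) (c : Perm β) :
    (Equiv.Perm.sumCongr a c).cycleType = a.cycleType + c.cycleType := by
  have hc : (Equiv.Perm.sumCongr (1 : Perm α) c).cycleType = c.cycleType := by
    have h : (Equiv.sumComm β α).permCongr (Equiv.Perm.sumCongr c (1 : Perm α)) =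
        Equiv.Perm.sumCongr (1 : Perm α) c := by
      ext x; rcases x with x | x <;> simp
    rw [← h, cycleType_permCongr, cycleType_sumCongr_one]
  have hd : Equiv.Perm.Disjoint (Equiv.Perm.sumCongr a (1 : Perm β)) (Equiv.Perm.sumCongr (1 : Perm α) c) := by
    rintro (x | x)
    · right; simp
    · left; simp
  have hmul : Equiv.Perm.sumCongr a c = Equiv.Perm.sumCongr a (1 : Perm β) * Equiv.Perm.sumCongr (1 : Perm α) c := by
    rw [Equiv.Perm.sumCongr_mul, one_mul, mul_one]
  rw [hmul, hd.cycleType_mul, cycleType_sumCongr_one, hc]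

lemma parts_sumCongr {β : Type*} [Fintype β] [DecidableEq β] (a : Perm α) (c : Perm β) :
    (Equiv.Perm.sumCongr a c).partition.parts = a.partition.parts + c.partition.parts := by
  rw [parts_eq, parts_eq, parts_eq, cycleType_sumCongr, Multiset.sum_add, Fintype.card_sum]
  have h1 := sum_cycleType_le a
  have h2 := sum_cycleType_le c
  rw [show Fintype.card α + Fintype.card β - (a.cycleType.sum + c.cycleType.sum) =
    (Fintype.card α - a.cycleType.sum) + (Fintype.card β - c.cycleType.sum) by omega,
    Multiset.replicate_add]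
  abel

/-- Composing with a transposition of a moved point and a fixed point inserts the latter in the cycle of
the former. -/
theorem insert_fixed {σ : Perm α} {z p : α} (hz : σ z ≠ z) (hp : σ p = p) :
    ((swap z p * σ).cycleOf z).support = insert p (σ.cycleOf z).support ∧
    (swap z p * σ).cycleType + {(σ.cycleOf z).support.card} =
      σ.cycleType + {(σ.cycleOf z).support.card + 1} ∧
    ∀ w, w ∉ insert p (σ.cycleOf z).support → (swap z p * σ).cycleOf w = σ.cycleOf w := by
  set c := σ.cycleOf z with hc
  set r := σ * c⁻¹ with hr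
  have hzs : z ∈ σ.support := mem_support.2 hz
  have hcyc : c.IsCycle := isCycle_cycleOf σ hz
  have hmem : c ∈ σ.cycleFactorsFinset := cycleOf_mem_cycleFactorsFinset_iff.2 hzs
  have hd : r.Disjoint c := disjoint_mul_inv_of_mem_cycleFactorsFinset hmem
  have hσ : σ = r * c := by rw [hr, inv_mul_cancel_right]
  have hpc : p ∉ c.support := fun h => by
    have := mem_support.1 (support_cycleOf_le σ z h)
    exact this hp
  have hpr : r p = p := by
    have : c p = p := notMem_support.1 hpc
    conv_rhs => rw [← hp, hσ, Perm.mul_apply, this]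
  obtain ⟨l, hl⟩ : ∃ l, toList σ z = z :: l := by
    have h1 := two_le_length_toList_iff_mem_support.2 hzs
    cases hL : toList σ z with
    | nil => rw [hL] at h1; simp at h1
    | cons y l =>
      refine ⟨l, ?_⟩
      have h2 := toList_getElem_zero σ z hzs
      simp only [hL, List.getElem_cons_zero] at h2
      rw [h2]
  have hnd : (z :: l).Nodup := hl ▸ nodup_toList σ z
  have hlc : (z :: l).formPerm = c := by rw [← hl, formPerm_toList, hc]
  have hlen : 2 ≤ (z :: l).length := hl ▸ two_le_length_toList_iff_mem_support.2 hzs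
  have hsupp : c.support = (z :: l).toFinset := by
    rw [← hlc, List.support_formPerm_of_nodup _ hnd]
    intro x hx; rw [hx] at hlen; simp at hlen
  have hpl : p ∉ z :: l := fun h => hpc (by rw [hsupp, List.mem_toFinset]; exact h)
  set c' := swap z p * c with hc'
  have hc'l : c' = (p :: z :: l).formPerm := by
    rw [List.formPerm_cons_cons, hlc, hc', swap_comm]
  have hnd' : (p :: z :: l).Nodup := List.nodup_cons.2 ⟨hpl, hnd⟩
  have hcyc' : c'.IsCycle := by
    rw [hc'l]; exact List.isCycle_formPerm hnd' (by simp)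
  have hsupp' : c'.support = insert p c.support := by
    rw [hc'l, List.support_formPerm_of_nodup _ hnd' (by simp), hsupp, List.toFinset_cons]
  have hd' : r.Disjoint c' := by
    rw [disjoint_iff_disjoint_support, hsupp', Finset.disjoint_insert_right]
    exact ⟨notMem_support.2 hpr, disjoint_iff_disjoint_support.1 hd⟩
  have hσ' : swap z p * σ = r * c' := by
    rw [hσ, hd.commute.eq, ← mul_assoc, ← hc', hd'.commute.eq]
  have hpos : ∀ w, w ∈ c'.support → r w = w := fun w hw =>
    notMem_support.1 fun h => Finset.disjoint_left.1 (disjoint_iff_disjoint_support.1 hd') h hw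
  refine ⟨?_, ?_, fun w hw => ?_⟩
  · have hz' : z ∈ c'.support := by
      rw [hsupp', Finset.mem_insert, hsupp]; right; simp
    rw [hσ', hd'.commute.eq, cycleOf_mul_of_apply_right_eq_self hd'.symm.commute z (hpos z hz'),
      hcyc'.cycleOf_eq (mem_support.1 hz'), hsupp']
  · rw [hσ', hd'.cycleType_mul, hcyc'.cycleType, hσ, hd.cycleType_mul, hcyc.cycleType, hsupp',
      Finset.card_insert_of_notMem hpc]
    abel
  · have h1 : c' w = w := notMem_support.1 (by rw [hsupp']; exact hw)
    have h2 : c w = w := notMem_support.1 fun h => hw (Finset.mem_insert_of_mem h)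
    rw [hσ', hσ, cycleOf_mul_of_apply_right_eq_self hd'.commute w h1,
      cycleOf_mul_of_apply_right_eq_self hd.commute w h2]

/-- `u` starts a transposition of `a` inside a cycle of length `m` of `σ`. -/
structure Edge (a σ : Perm α) (u : α) (m : ℕ) : Prop where
  ne : a u ≠ u
  invol : a (a u) = u
  mem : a u ∈ (σ.cycleOf u).support
  card : (σ.cycleOf u).support.card = m

lemma Edge.moved {a σ : Perm α} {u : α} {m : ℕ} (h : Edge a σ u m) : σ u ≠ u := fun hu => by
  have := h.mem
  rw [(cycleOf_eq_one_iff σ).2 hu, support_one] at this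
  exact Finset.notMem_empty _ this

/-- The step that lengthens one cycle by two. -/
theorem grow {a b : Perm α} {u : α} {m : ℕ} (hu : Edge a (a * b) u m) :
    ∃ (a' b' : Perm (α ⊕ Bool)), a'.cycleType = a.cycleType + {2} ∧ b'.cycleType = b.cycleType + {2} ∧
      (a' * b').cycleType + {m} = (a * b).cycleType + {m + 2} ∧
      Edge a' (a' * b') (Sum.inl u) (m + 2) ∧
      (∀ w k, w ∉ ((a * b).cycleOf u).support → Edge a (a * b) w k →
        Edge a' (a' * b') (Sum.inl w) k ∧ Sum.inl w ∉ ((a' * b').cycleOf (Sum.inl u)).support) := by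
  set σ := a * b with hσ
  set v := a u with hv
  set s : Perm Bool := swap false true with hs
  set c : Perm (α ⊕ Bool) := swap (Sum.inl v) (Sum.inr false) with hc
  set a' := c * Equiv.Perm.sumCongr a s * c⁻¹ with ha'
  set b' := Equiv.Perm.sumCongr b s with hb'
  have hs2 : s * s = 1 := swap_mul_self _ _
  have hst : s.cycleType = {2} := by decide +kernel
  set σ0 : Perm (α ⊕ Bool) := Equiv.Perm.sumCongr σ (1 : Perm Bool) with hσ0
  have hprod : a' * b' = c * (swap (Sum.inl u) (Sum.inr true) * σ0) := by
    have h1 : Equiv.Perm.sumCongr a s * c⁻¹ = swap (Sum.inl u) (Sum.inr true) * Equiv.Perm.sumCongr a s := by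
      rw [hc, swap_inv, Equiv.mul_swap_eq_swap_mul]
      congr 2
      simp [hv, hu.invol]
    have h2 : Equiv.Perm.sumCongr a s * Equiv.Perm.sumCongr b s = σ0 := by
      rw [Equiv.Perm.sumCongr_mul, hs2]
    rw [ha', hb', mul_assoc c, h1, mul_assoc, mul_assoc (swap _ _), h2]
  have hcy : ∀ w : α, ((σ0.cycleOf (Sum.inl w)).support) = (σ.cycleOf w).support.map ⟨Sum.inl, Sum.inl_injective⟩ := by
    intro w
    ext x
    rw [mem_support_cycleOf_iff, Finset.mem_map]
    have hpow : ∀ i : ℤ, (σ0 ^ i) (Sum.inl w) = Sum.inl ((σ ^ i) w) := fun i => by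
      have h : σ0 ^ i = Equiv.Perm.sumCongr (σ ^ i) (1 : Perm Bool) := by
        rw [hσ0, show (Equiv.Perm.sumCongr σ (1 : Perm Bool)) = Equiv.Perm.sumCongrHom α Bool (σ, 1) from rfl,
          ← map_zpow, Prod.pow_mk, one_zpow]
        rfl
      rw [h]; rfl
    constructor
    · rintro ⟨⟨i, rfl⟩, hx⟩
      refine ⟨(σ ^ i) w, ?_, (hpow i).symm⟩
      rw [mem_support_cycleOf_iff]
      refine ⟨⟨i, rfl⟩, ?_⟩
      rw [mem_support] at hx ⊢
      intro h
      exact hx (by simp [hσ0, h])
    · rintro ⟨y, hy, rfl⟩
      rw [mem_support_cycleOf_iff] at hy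
      obtain ⟨⟨i, rfl⟩, hy⟩ := hy
      refine ⟨⟨i, hpow i⟩, ?_⟩
      rw [mem_support] at hy ⊢
      simpa [hσ0] using hy
  have hu0 : σ0 (Sum.inl u) ≠ Sum.inl u := by simpa [hσ0] using hu.moved
  obtain ⟨A1, A2, A3⟩ := insert_fixed hu0 (show σ0 (Sum.inr true) = Sum.inr true from rfl)
  set σ1 := swap (Sum.inl u) (Sum.inr true) * σ0 with hσ1
  have hC1 : ((σ1.cycleOf (Sum.inl u)).support) =
      insert (Sum.inr true) ((σ.cycleOf u).support.map ⟨Sum.inl, Sum.inl_injective⟩) := by
    rw [A1, hcy]
  have hvmem : Sum.inl v ∈ (σ1.cycleOf (Sum.inl u)).support := by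
    rw [hC1, Finset.mem_insert, Finset.mem_map]
    exact Or.inr ⟨v, hu.mem, rfl⟩
  have hsame := (mem_support_cycleOf_iff.1 hvmem)
  have hcv : σ1.cycleOf (Sum.inl v) = σ1.cycleOf (Sum.inl u) := (hsame.1.cycleOf_eq).symm
  have hv1 : σ1 (Sum.inl v) ≠ Sum.inl v := mem_support.1 (support_cycleOf_le _ _ hvmem)
  have hp1 : σ1 (Sum.inr false) = Sum.inr false := by
    rw [hσ1, Perm.mul_apply, show σ0 (Sum.inr false) = Sum.inr false from rfl,
      swap_apply_of_ne_of_ne] <;> simp
  obtain ⟨B1, B2, B3⟩ := insert_fixed hv1 hp1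
  rw [hcv] at B1 B2 B3
  rw [← hc] at B1 B2 B3
  have hσ' : a' * b' = c * σ1 := hprod
  have hcard1 : (σ1.cycleOf (Sum.inl u)).support.card = m + 1 := by
    rw [hC1, Finset.card_insert_of_notMem (by simp), Finset.card_map, hu.card]
  have hC2 : ((a' * b').cycleOf (Sum.inl u)).support =
      insert (Sum.inr false) (σ1.cycleOf (Sum.inl u)).support := by
    rw [hσ', ← B1]
    congr 1
    refine (SameCycle.cycleOf_eq ?_).symm
    have : Sum.inl u ∈ ((c * σ1).cycleOf (Sum.inl v)).support := by
      rw [B1, Finset.mem_insert, hC1, Finset.mem_insert, Finset.mem_map]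
      refine Or.inr (Or.inr ⟨u, ?_, rfl⟩)
      rw [mem_support_cycleOf_iff]
      exact ⟨SameCycle.refl _ _, mem_support.2 hu.moved⟩
    exact (mem_support_cycleOf_iff.1 this).1
  refine ⟨a', b', ?_, ?_, ?_, ?_, ?_⟩
  · rw [ha', cycleType_conj, cycleType_sumCongr, hst]
  · rw [hb', cycleType_sumCongr, hst]
  · rw [hσ']
    rw [hcard1] at B2
    have e0 : σ0.cycleType = σ.cycleType := cycleType_sumCongr_one σ
    have hm : (σ0.cycleOf (Sum.inl u)).support.card = m := by rw [hcy, Finset.card_map, hu.card]
    rw [hm, e0] at A2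
    have : ((c * σ1).cycleType + {m}) + {m + 1} = (σ.cycleType + {m + 2}) + {m + 1} := by
      calc ((c * σ1).cycleType + {m}) + {m + 1} = ((c * σ1).cycleType + {m + 1}) + {m} := by abel
        _ = σ1.cycleType + {m} + {m + 2} := by rw [B2, show m + 1 + 1 = m + 2 from rfl]; abel
        _ = _ := by rw [A2]; abel
    exact add_right_cancel this
  · have hci : c⁻¹ = c := swap_inv _ _
    have hau : a' (Sum.inl u) = Sum.inr false := by
      rw [ha', hci, Perm.mul_apply, Perm.mul_apply, hc,
        swap_apply_of_ne_of_ne (a := Sum.inl v) (x := Sum.inl u) (by simpa [hv] using hu.ne.symm) (by simp)]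
      show swap _ _ (Sum.inl (a u)) = _
      rw [← hv, swap_apply_left]
    refine ⟨by rw [hau]; simp, ?_, ?_, ?_⟩
    · rw [hau, ha', hci, Perm.mul_apply, Perm.mul_apply, hc, swap_apply_right]
      show swap _ _ (Sum.inl (a v)) = _
      rw [hv, hu.invol, swap_apply_of_ne_of_ne (by simpa using hu.ne.symm) (by simp)]
    · rw [hau, hC2]; exact Finset.mem_insert_self _ _
    · rw [hC2, Finset.card_insert_of_notMem, hcard1]
      rw [hC1]; simp
  · intro w k hw hE
    have hout : Sum.inl w ∉ insert (Sum.inr false) (σ1.cycleOf (Sum.inl u)).support := by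
      rw [hC1]; simp [hw]
    have hk : (a' * b').cycleOf (Sum.inl w) = σ0.cycleOf (Sum.inl w) := by
      rw [hσ', B3 _ hout, A3]
      rw [hcy]; simp [hw]
    have hwu : w ≠ v := fun h => hw (h ▸ hu.mem)
    have haw : a w ≠ v := by
      intro h
      have : w = u := by
        apply a.injective
        rw [h, hv]
      apply hw
      rw [this, mem_support_cycleOf_iff]
      exact ⟨SameCycle.refl _ _, mem_support.2 hu.moved⟩
    have hci : c⁻¹ = c := swap_inv _ _
    have happ : ∀ y, y ≠ v → a y ≠ v → a' (Sum.inl y) = Sum.inl (a y) := by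
      intro y h1 h2
      rw [ha', hci, Perm.mul_apply, Perm.mul_apply, hc,
        swap_apply_of_ne_of_ne (x := Sum.inl y) (by simpa using h1) (by simp)]
      show swap _ _ (Sum.inl (a y)) = _
      rw [swap_apply_of_ne_of_ne (by simpa using h2) (by simp)]
    refine ⟨⟨?_, ?_, ?_, ?_⟩, ?_⟩
    · rw [happ w hwu haw]; simpa using hE.ne
    · rw [happ w hwu haw, happ (a w) haw (by rw [hE.invol]; exact hwu), hE.invol]
    · rw [happ w hwu haw, hk, hcy, Finset.mem_map]; exact ⟨a w, hE.mem, rfl⟩
    · rw [hk, hcy, Finset.card_map, hE.card]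
    · rw [hC2]; exact hout

end Cfsg.Agent.AltTwoConj
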